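import Mathlib

/-!
# Finite groups with numeric codes: lists of conjugates and centralisers

Certificates that compute a centraliser and a conjugacy class of a coded finite group.
-/

set_option autoImplicit false

namespace CfsgLib.CommGraph

/-- An injective numbering of a group with a computable product. -/
structure Coded (G : Type*) [Group G] where
  c : G → ℕ
  op : ℕ → ℕ → ℕ
  e : ℕ
  inj : Function.Injective c
  c_one : c 1 = e
  c_mul : ∀ a b : G, c (a * b) = op (c a) (c b)

variable {G : Type*} [Group G]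

/-- All pairs `(g, g')` multiply to the identity code. -/
def invPairsB (op : ℕ → ℕ → ℕ) (e : ℕ) (gens : List (ℕ × ℕ)) : Bool :=
  gens.all fun p => op p.1 p.2 == e

/-- The `k`-th entry of a packed table of numbers of `w` bits. -/
def entry (w T k : ℕ) : ℕ := Nat.mod (Nat.shiftRight T (Nat.mul w k)) (Nat.pow 2 w)

/-- The list of the first `len` entries of a packed table. -/
def unpack (w len T : ℕ) : List ℕ := (List.range len).map (entry w T)

/-- The entries have distinct residues modulo `p`. -/
noncomputable def distinctB (p : ℕ) (l : List ℕ) : Bool :=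
  List.rec (motive := fun _ => ℕ → Bool) (fun _ => true)
    (fun h _ ih acc => !Nat.testBit acc (Nat.mod h p) && ih (Nat.lor acc (Nat.shiftLeft 1 (Nat.mod h p))))
    l 0

/-- Entry `k+1` is a conjugate of an earlier entry by a generator. -/
def conjListB (op : ℕ → ℕ → ℕ) (gens : List (ℕ × ℕ)) (w len T : ℕ) (par : List (ℕ × ℕ)) : Bool :=
  (par.length + 1 == len) && par.zipIdx.all fun q =>
    decide (q.1.1 ≤ q.2) &&
      match gens[q.1.2]? with
      | some g => entry w T (q.2 + 1) == op (op g.1 (entry w T q.1.1)) g.2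
      | none => false

/-- Entry `k+1` is the product of an earlier entry with a generator. -/
def prodListB (op : ℕ → ℕ → ℕ) (gens : List ℕ) (w len T : ℕ) (par : List (ℕ × ℕ)) : Bool :=
  (par.length + 1 == len) && par.zipIdx.all fun q =>
    decide (q.1.1 ≤ q.2) &&
      match gens[q.1.2]? with
      | some g => entry w T (q.2 + 1) == op (entry w T q.1.1) g
      | none => false

theorem nodup_of_distinctB {p : ℕ} {l : List ℕ} (h : distinctB p l = true) : l.Nodup := by
  suffices H : ∀ (l : List ℕ) (acc : ℕ),
      List.rec (motive := fun _ => ℕ → Bool) (fun _ => true)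
        (fun h _ ih acc => !Nat.testBit acc (Nat.mod h p) && ih (Nat.lor acc (Nat.shiftLeft 1 (Nat.mod h p))))
        l acc = true → l.Nodup ∧ ∀ u ∈ l, Nat.testBit acc (u % p) = false by
    exact (H l 0 h).1
  intro l
  induction l with
  | nil => exact fun acc _ => ⟨List.nodup_nil, by simp⟩
  | cons a t ih =>
    intro acc hacc
    simp only [Bool.and_eq_true, Bool.not_eq_true'] at hacc
    obtain ⟨hnd, hall⟩ := ih _ hacc.2
    have hset : ∀ u ∈ t, Nat.testBit acc (u % p) = false ∧ u % p ≠ a % p := by
      intro u hu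
      have h' := hall u hu
      change Nat.testBit (acc ||| 1 <<< (a % p)) (u % p) = false at h'
      rw [Nat.testBit_or, Bool.or_eq_false_iff] at h'
      refine ⟨h'.1, fun e => ?_⟩
      rw [e, Nat.testBit_shiftLeft] at h'
      simp at h'
    refine ⟨List.nodup_cons.2 ⟨fun ha => (hset a ha).2 rfl, hnd⟩, fun u hu => ?_⟩
    rcases List.mem_cons.1 hu with rfl | hu
    · exact hacc.1
    · exact (hset u hu).1

namespace Coded

variable (C : Coded G)

theorem commute_iff (a b : G) : a * b = b * a ↔ C.op (C.c a) (C.c b) = C.op (C.c b) (C.c a) := by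
  rw [← C.c_mul, ← C.c_mul]
  exact C.inj.eq_iff.symm

theorem conjList {gens : List (ℕ × ℕ)} (hg : ∀ p ∈ gens, (∃ x, C.c x = p.1) ∧ ∃ x, C.c x = p.2)
    (hinv : invPairsB C.op C.e gens = true) {w len T : ℕ} {par : List (ℕ × ℕ)}
    (h : conjListB C.op gens w len T par = true) {s : G} (hs : entry w T 0 = C.c s) :
    ∀ u ∈ unpack w len T, ∃ t : G, C.c (t * s * t⁻¹) = u := by
  simp only [conjListB, Bool.and_eq_true, beq_iff_eq, List.all_eq_true] at h
  obtain ⟨hlen, hall⟩ := h
  have key : ∀ k, k < len → ∃ t : G, C.c (t * s * t⁻¹) = entry w T k := by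
    intro k
    induction k using Nat.strong_induction_on with
    | _ k ih =>
      intro hk
      rcases k with _ | k
      · exact ⟨1, by rw [hs]; simp⟩
      · have hkp : k < par.length := by omega
        obtain ⟨hle, hm⟩ := hall (par[k], k) (by
          rw [List.mk_mem_zipIdx_iff_getElem?, List.getElem?_eq_getElem hkp])
        rw [decide_eq_true_eq] at hle
        obtain ⟨t, ht⟩ := ih (par[k]).1 (Nat.lt_succ_of_le hle) (by simp only at hle; omega)
        revert hm
        cases hge : gens[(par[k]).2]? with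
        | none => simp
        | some g =>
          intro hm
          simp only [beq_iff_eq] at hm
          have hgm := List.mem_of_getElem? hge
          obtain ⟨⟨x, hx⟩, x', hx'⟩ := hg g hgm
          have hxx : x * x' = 1 := C.inj (by
            rw [C.c_mul, hx, hx', C.c_one]
            simpa using (List.all_eq_true.1 hinv) g hgm)
          refine ⟨x * t, ?_⟩
          rw [hm, ← hx, ← hx', ← ht, ← C.c_mul, ← C.c_mul, eq_inv_of_mul_eq_one_right hxx]
          congr 1
          group
  intro u hu
  obtain ⟨k, hk, rfl⟩ := List.mem_map.1 hu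
  exact key k (List.mem_range.1 hk)

theorem prodList {gens : List ℕ} (hg : ∀ p ∈ gens, ∃ x, C.c x = p) {w len T : ℕ}
    {par : List (ℕ × ℕ)} (h : prodListB C.op gens w len T par = true) (h0 : entry w T 0 = C.e) :
    ∀ u ∈ unpack w len T, ∃ t : G, C.c t = u := by
  simp only [prodListB, Bool.and_eq_true, beq_iff_eq, List.all_eq_true] at h
  obtain ⟨hlen, hall⟩ := h
  have key : ∀ k, k < len → ∃ t : G, C.c t = entry w T k := by
    intro k
    induction k using Nat.strong_induction_on with
    | _ k ih =>
      intro hk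
      rcases k with _ | k
      · exact ⟨1, by rw [h0, C.c_one]⟩
      · have hkp : k < par.length := by omega
        obtain ⟨hle, hm⟩ := hall (par[k], k) (by
          rw [List.mk_mem_zipIdx_iff_getElem?, List.getElem?_eq_getElem hkp])
        rw [decide_eq_true_eq] at hle
        obtain ⟨t, ht⟩ := ih (par[k]).1 (Nat.lt_succ_of_le hle) (by simp only at hle; omega)
        revert hm
        cases hge : gens[(par[k]).2]? with
        | none => simp
        | some g =>
          intro hm
          simp only [beq_iff_eq] at hm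
          obtain ⟨x, hx⟩ := hg g (List.mem_of_getElem? hge)
          exact ⟨t * x, by rw [hm, C.c_mul, ht, hx]⟩
  intro u hu
  obtain ⟨k, hk, rfl⟩ := List.mem_map.1 hu
  exact key k (List.mem_range.1 hk)

variable [Finite G]

theorem le_card_of_list (p : G → Prop) {l : List ℕ} (hl : l.Nodup)
    (h : ∀ u ∈ l, ∃ g, p g ∧ C.c g = u) : l.length ≤ Nat.card {g // p g} := by
  classical
  rw [← List.toFinset_card_of_nodup hl, ← Nat.card_eq_finsetCard]
  choose g hg hgc using fun u : l.toFinset => h u (List.mem_toFinset.1 u.2)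
  refine Nat.card_le_card_of_injective (fun u => ⟨g u, hg u⟩) fun u v e => Subtype.ext ?_
  have e' : g u = g v := congrArg Subtype.val e
  rw [← hgc u, ← hgc v, e']

theorem mem_of_card_le (p : G → Prop) {l : List ℕ} (hl : l.Nodup)
    (h : ∀ u ∈ l, ∃ g, p g ∧ C.c g = u) (hle : Nat.card {g // p g} ≤ l.length) {g : G} (hp : p g) :
    C.c g ∈ l := by
  classical
  by_contra hnot
  have := C.le_card_of_list p (l := C.c g :: l) (List.nodup_cons.2 ⟨hnot, hl⟩) (by
    intro u hu
    rcases List.mem_cons.1 hu with rfl | hu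
    · exact ⟨g, hp, rfl⟩
    · exact h u hu)
  rw [List.length_cons] at this
  omega

/-- `|C(s)| ≥ |l|` and `|s^G| ≥ |O|` with `|O| |l| = |G|`: both lists are complete. -/
theorem class_and_centralizer {s : G} {l O : List ℕ} (hl : l.Nodup) (hO : O.Nodup)
    (hlr : ∀ u ∈ l, ∃ g, C.c g = u) (hls : ∀ u ∈ l, C.op u (C.c s) = C.op (C.c s) u)
    (hOc : ∀ u ∈ O, ∃ t : G, C.c (t * s * t⁻¹) = u) (hN : O.length * l.length = Nat.card G) :
    (∀ g, g * s = s * g → C.c g ∈ l) ∧ (∀ t : G, C.c (t * s * t⁻¹) ∈ O) ∧
      Nat.card (Subgroup.centralizer ({s} : Set G)) = l.length := by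
  have hcent : ∀ g, g ∈ Subgroup.centralizer ({s} : Set G) ↔ g * s = s * g := fun g =>
    Subgroup.mem_centralizer_singleton_iff
  have hl' : ∀ u ∈ l, ∃ g, g * s = s * g ∧ C.c g = u := fun u hu => by
    obtain ⟨g, rfl⟩ := hlr u hu
    exact ⟨g, (C.commute_iff g s).2 (hls _ hu), rfl⟩
  have hO' : ∀ u ∈ O, ∃ g, g ∈ MulAction.orbit (ConjAct G) s ∧ C.c g = u := fun u hu => by
    obtain ⟨t, ht⟩ := hOc u hu
    exact ⟨_, ⟨ConjAct.toConjAct t, ConjAct.toConjAct_smul t s⟩, ht⟩
  have h1 := C.le_card_of_list _ hl hl'
  have h2 := C.le_card_of_list _ hO hO'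
  have h1e : Nat.card {g // g * s = s * g} = Nat.card (Subgroup.centralizer ({s} : Set G)) :=
    Nat.card_congr (Equiv.subtypeEquivRight fun g => (hcent g).symm)
  have h3 : Nat.card (MulAction.orbit (ConjAct G) s) *
      Nat.card (Subgroup.centralizer ({s} : Set G)) = Nat.card G := by
    have hst : Nat.card (MulAction.stabilizer (ConjAct G) s) =
        Nat.card (Subgroup.centralizer ({s} : Set G)) := by
      refine Nat.card_congr (ConjAct.ofConjAct.toEquiv.subtypeEquiv fun g => ?_)
      rw [hcent, MulAction.mem_stabilizer_iff, ConjAct.smul_def, mul_inv_eq_iff_eq_mul]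
      rfl
    rw [← hst, Nat.card_coe_set_eq, ← MulAction.index_stabilizer, Subgroup.index_mul_card]
    exact Nat.card_congr ConjAct.ofConjAct.toEquiv
  rw [← hN, ← h1e] at h3
  have h2' : O.length ≤ Nat.card (MulAction.orbit (ConjAct G) s) := h2
  have hNpos : 0 < O.length * l.length := hN ▸ Nat.card_pos
  have hOpos : 0 < O.length := Nat.pos_of_mul_pos_right hNpos
  have hlle : Nat.card {g // g * s = s * g} ≤ l.length := by
    refine Nat.le_of_mul_le_mul_left (le_of_le_of_eq (Nat.mul_le_mul_right _ h2') h3) hOpos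
  have hOle : Nat.card (MulAction.orbit (ConjAct G) s) ≤ O.length := by
    rw [le_antisymm hlle h1] at h3
    refine le_of_eq (Nat.eq_of_mul_eq_mul_right (Nat.pos_of_ne_zero fun e => ?_) h3)
    rw [e, mul_zero] at hNpos
    omega
  exact ⟨fun g hg => C.mem_of_card_le _ hl hl' hlle hg,
    fun t => C.mem_of_card_le _ hO hO' hOle ⟨ConjAct.toConjAct t, ConjAct.toConjAct_smul t s⟩,
    h1e ▸ le_antisymm hlle h1⟩

end Coded

end CfsgLib.CommGraph
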