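import Cfsg.Agent.Lib.CommGraph.Recognition
import Cfsg.Agent.Lib.CommGraph.L33Data
import Cfsg.Agent.Lib.Linear.Card

/-! The certificate for `SL(3,3)`. -/

set_option autoImplicit false

namespace CfsgLib.CommGraph

open Matrix

/-- A ternary digit. -/
def tdig (a n : ℕ) : ℕ := Nat.mod (Nat.div a (Nat.pow 3 n)) 3

/-- An entry of a product of two coded matrices. -/
def tent (a b i j : ℕ) : ℕ :=
  Nat.mod (Nat.add (Nat.add (Nat.mul (tdig a (3 * i)) (tdig b j))
    (Nat.mul (tdig a (3 * i + 1)) (tdig b (3 + j))))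
    (Nat.mul (tdig a (3 * i + 2)) (tdig b (6 + j)))) 3

/-- The product of coded matrices. -/
def tmul (a b : ℕ) : ℕ :=
  Nat.add (Nat.add (Nat.add (Nat.add (Nat.add (Nat.add (Nat.add (Nat.add (tent a b 0 0)
    (Nat.mul 3 (tent a b 0 1)))
    (Nat.mul 9 (tent a b 0 2)))
    (Nat.mul 27 (tent a b 1 0)))
    (Nat.mul 81 (tent a b 1 1)))
    (Nat.mul 243 (tent a b 1 2)))
    (Nat.mul 729 (tent a b 2 0)))
    (Nat.mul 2187 (tent a b 2 1)))
    (Nat.mul 6561 (tent a b 2 2))

/-- The code of a matrix. -/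
def tcode (M : Matrix (Fin 3) (Fin 3) (ZMod 3)) : ℕ :=
  (M 0 0).val
    + 3 * (M 0 1).val
    + 9 * (M 0 2).val
    + 27 * (M 1 0).val
    + 81 * (M 1 1).val
    + 243 * (M 1 2).val
    + 729 * (M 2 0).val
    + 2187 * (M 2 1).val
    + 6561 * (M 2 2).val

theorem tdig_eq (a n : ℕ) : tdig a n = a / 3 ^ n % 3 := rfl

theorem tent_eq (a b i j : ℕ) : tent a b i j = (tdig a (3 * i) * tdig b j +
    tdig a (3 * i + 1) * tdig b (3 + j) + tdig a (3 * i + 2) * tdig b (6 + j)) % 3 := rfl

theorem tdig_tcode (M : Matrix (Fin 3) (Fin 3) (ZMod 3)) (i j : Fin 3) :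
    tdig (tcode M) (3 * (i : ℕ) + j) = (M i j).val := by
  have h : ∀ a b, (M a b).val < 3 := fun a b => ZMod.val_lt _
  have h00 := h 0 0
  have h01 := h 0 1
  have h02 := h 0 2
  have h10 := h 1 0
  have h11 := h 1 1
  have h12 := h 1 2
  have h20 := h 2 0
  have h21 := h 2 1
  have h22 := h 2 2
  fin_cases i <;> fin_cases j <;>
    (simp [tdig_eq, tcode] <;> omega)

theorem tent_tcode (A B : Matrix (Fin 3) (Fin 3) (ZMod 3)) (i j : Fin 3) :
    tent (tcode A) (tcode B) i j = ((A * B) i j).val := by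
  have a0 := tdig_tcode A i 0
  have a1 := tdig_tcode A i 1
  have a2 := tdig_tcode A i 2
  have b0 := tdig_tcode B 0 j
  have b1 := tdig_tcode B 1 j
  have b2 := tdig_tcode B 2 j
  norm_num at a0 a1 a2 b0 b1 b2
  rw [tent_eq]
  rw [a0, a1, a2, b0, b1, b2, Matrix.mul_apply, Fin.sum_univ_three]
  simp only [ZMod.val_add, ZMod.val_mul, Nat.add_mod, Nat.mul_mod, Nat.mod_mod]

theorem tcode_mul (A B : Matrix (Fin 3) (Fin 3) (ZMod 3)) :
    tcode (A * B) = tmul (tcode A) (tcode B) := by
  have h : ∀ i j : Fin 3, ((A * B) i j).val = tent (tcode A) (tcode B) i j := fun i j =>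
    (tent_tcode A B i j).symm
  rw [tmul, tcode]
  simp only [h]
  rfl

theorem tcode_injective : Function.Injective tcode := fun A B e => by
  ext i j
  refine ZMod.val_injective 3 ?_
  rw [← tdig_tcode, ← tdig_tcode, e]

/-- The products used to reach the listed elements. -/
def l33E : List ℕ := unpack 16 417 l33ET
/-- The class of an element of order eight. -/
def l33Os : List ℕ := unpack 16 702 l33OsT
/-- The involutions. -/
def l33V : List ℕ := unpack 16 117 l33VT

/-- `SL(3,3)` coded in base three. -/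
def l33Coded : Coded (SpecialLinearGroup (Fin 3) (ZMod 3)) where
  c g := tcode g.1
  op := tmul
  e := 6643
  inj := tcode_injective.comp Subtype.val_injective
  c_one := by decide
  c_mul a b := tcode_mul a.1 b.1

theorem l33_card : Nat.card (SpecialLinearGroup (Fin 3) (ZMod 3)) = 16 * 351 := by
  have h := Linear.card_SL_mul (F := ZMod 3) 3 (by norm_num)
  simp [Fin.prod_univ_three] at h
  rw [Nat.card_eq_fintype_card]
  omega

theorem l33_gen_mem : ∀ p ∈ l33Gens,
    (∃ x, l33Coded.c x = p.1) ∧ ∃ x, l33Coded.c x = p.2 := by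
  intro p hp
  simp only [l33Gens, List.mem_cons, List.not_mem_nil, or_false] at hp
  rcases hp with rfl | rfl
  · exact ⟨⟨⟨!![1, 1, 0; 0, 1, 0; 0, 0, 1], by decide⟩, by decide⟩,
      ⟨!![1, 2, 0; 0, 1, 0; 0, 0, 1], by decide⟩, by decide⟩
  · exact ⟨⟨⟨!![0, 0, 1; 1, 0, 0; 0, 1, 0], by decide⟩, by decide⟩,
      ⟨!![0, 1, 0; 0, 0, 1; 1, 0, 0], by decide⟩, by decide⟩

theorem l33_inv : invPairsB tmul 6643 l33Gens = true := by decide +kernel

theorem l33_E_check : prodListB tmul (l33Gens.map Prod.fst) 16 417 l33ET l33EPar = true := by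
  decide +kernel

theorem l33_lists : (l33S0 ++ l33Ls ++ l33Lz ++ [l33SCode, l33RCode, l33ZCode]).all
    (fun u => l33E.contains u) = true := by decide +kernel

theorem l33_small :
    entry 16 l33ET 0 = 6643 ∧ l33S0.length = 16 ∧ l33Ls.length = 8 ∧
      l33Lz.length = 48 ∧ entry 16 l33OsT 0 = l33SCode ∧ entry 16 l33VT 0 = l33ZCode ∧
      (l33S0.all fun u => l33S0.all fun u' => l33S0.contains (tmul u u')) = true ∧
      l33S0.contains l33SCode = true ∧ l33S0.contains l33RCode = true ∧
      (l33Ls.all fun u => tmul u l33SCode == tmul l33SCode u) = true ∧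
      (l33Ls.all fun u => (tmul u l33RCode != tmul l33RCode u) || u == 6643 || u == l33ZCode) = true ∧
      (l33Lz.all fun u => tmul u l33ZCode == tmul l33ZCode u) = true ∧
      (l33ZCode == 6643) = false := by
  decide +kernel

theorem l33_faith :
    (l33Lz.all fun u => u == 6643 || !(l33V.all fun v => tmul u v == tmul v u)) = true := by
  decide +kernel

theorem l33_os : conjListB tmul l33Gens 16 702 l33OsT l33OsPar = true := by decide +kernel

theorem l33_v : conjListB tmul l33Gens 16 117 l33VT l33VPar = true := by decide +kernel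

theorem l33_nodup : l33S0.Nodup ∧ l33Ls.Nodup ∧ l33Lz.Nodup := by decide +kernel

theorem l33_os_nodup : distinctB l33OsP l33Os = true := by decide +kernel

theorem l33_v_nodup : distinctB l33VP l33V = true := by decide +kernel

theorem l33_adj : adjB tmul 117 l33T l33V = true := by decide +kernel

theorem l33_tables : tablesB 117 l33T l33R l33N = true := by decide +kernel

theorem l33_steps : stepsB 117 l33R [] l33Steps = true ∧
    ((List.range 117).all fun z => (l33Steps.map Prod.fst).contains z) = true ∧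
    (l33Steps.map fun s => s.2.2).prod = 11232 := by decide +kernel

theorem l33_rigid : Nat.card (graphAut 117 l33T) ≤ 11232 :=
  (card_graphAut_le l33_tables l33_steps.1 l33_steps.2.1).trans_eq l33_steps.2.2

/-- A group with the commuting graph of `SL(3,3)` embeds into the graph automorphisms. -/
theorem l33_exists_hom {H : Type*} [Group H] (F : H ≃ (SpecialLinearGroup (Fin 3) (ZMod 3))) (hF1 : F 1 = 1)
    (hF : ∀ x y : H, x * y = y * x ↔ F x * F y = F y * F x) :
    ∃ ρ : H →* graphAut 117 l33T, Function.Injective ρ := by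
  obtain ⟨hE0, hS0l, hlsl, hlzl, hOs0, hV0, hS0m, hsS, hrS, hlsc, hsr, hlzc, hzne⟩ := l33_small
  obtain ⟨hS0, hls, hlz⟩ := l33_nodup
  have hOs : l33Os.Nodup := nodup_of_distinctB l33_os_nodup
  have hV : l33V.Nodup := nodup_of_distinctB l33_v_nodup
  have hOsl : l33Os.length = 702 := by simp [l33Os, unpack]
  have hVl : l33V.length = 117 := by simp [l33V, unpack]
  have hf := l33_faith
  simp only [List.all_eq_true, List.contains_iff_mem, beq_iff_eq, Bool.or_eq_true,
    bne_iff_ne] at hS0m hsS hrS hlsc hsr hlzc hf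
  have hlists := l33_lists
  simp only [List.all_eq_true, List.contains_iff_mem, List.mem_append] at hlists
  have hrange : ∀ u ∈ l33E, ∃ g, l33Coded.c g = u :=
    l33Coded.prodList (fun p hp => by
      obtain ⟨q, hq, rfl⟩ := List.mem_map.1 hp
      exact (l33_gen_mem q hq).1) l33_E_check hE0
  obtain ⟨s, hs⟩ := hrange l33SCode (hlists _ (Or.inr (by simp)))
  obtain ⟨r, hr⟩ := hrange l33RCode (hlists _ (Or.inr (by simp)))
  obtain ⟨z, hz⟩ := hrange l33ZCode (hlists _ (Or.inr (by simp)))
  have hVc := l33Coded.conjList l33_gen_mem l33_inv l33_v (s := z) (hV0.trans hz.symm)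
  have hz1 : z ≠ 1 := fun e => by
    rw [e, l33Coded.c_one] at hz
    rw [← hz] at hzne
    simp [l33Coded] at hzne
  obtain ⟨hiff, hcz⟩ := isVertex_iff l33Coded (k := 351)
    l33_card (by decide) (s := s) (r := r) (z := z) hS0
    (fun u hu => hrange u (hlists u (Or.inl (Or.inl (Or.inl hu))))) hS0l
    (fun u hu u' hu' => hS0m u hu u' hu') (hs ▸ hsS) (hr ▸ hrS) hls hOs
    (fun u hu => hrange u (hlists u (Or.inl (Or.inl (Or.inr hu)))))
    (fun u hu => hs ▸ hlsc u hu)
    (l33Coded.conjList l33_gen_mem l33_inv l33_os (hOs0.trans hs.symm)) (by rw [hOsl, hlsl])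
    (fun u hu h => by
      rw [hr] at h
      rw [hz]
      exact (or_assoc.1 (hsr u hu)).resolve_left (not_not.2 h))
    hlz hV (fun u hu => hrange u (hlists u (Or.inl (Or.inr hu))))
    (fun u hu => hz ▸ hlzc u hu) hVc (by rw [hVl, hlzl]) (by rw [hlzl]; norm_num) hz1
  refine exists_hom l33Coded hVl hV (fun u hu => (hVc u hu).elim fun t ht => ⟨_, ht⟩) hiff l33_adj
    (fun g hg => ?_) F hF1 hF
  have hzV : l33ZCode ∈ l33V := by
    rw [← hz, hiff]
    exact ((hiff z).1 (by
      have : entry 16 l33VT 0 ∈ l33V := List.mem_map.2 ⟨0, List.mem_range.2 (by norm_num), rfl⟩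
      rw [hz, ← hV0]; exact this))
  have hgz : g * z = z * g := (l33Coded.commute_iff g z).2 (by rw [hz]; exact hg _ hzV)
  rcases hf _ (hcz g hgz) with e | e
  · exact l33Coded.inj (e.trans l33Coded.c_one.symm)
  · have hall : (l33V.all fun v => tmul (l33Coded.c g) v == tmul v (l33Coded.c g)) = true :=
      List.all_eq_true.2 fun v hv => beq_iff_eq.2 (hg v hv)
    rw [hall] at e
    exact absurd e (by simp)

end CfsgLib.CommGraph
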