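import Cfsg.Agent.Lib.CommGraph.Recognition
import Cfsg.Agent.Lib.CommGraph.M11Data
import Cfsg.Agent.Lib.FusionCert.Mathieu.M11

/-! The certificate for the Mathieu group `M₁₁`. -/

set_option autoImplicit false

namespace CfsgLib.CommGraph

open CfsgLib.FusionCert

/-- The product of codes, evaluated fast by the kernel. -/
noncomputable def fastMul (a b : ℕ) : ℕ :=
  Nat.rec 0 (fun j ih => Nat.add ih (Nat.mul (Nat.mod (Nat.div a (Nat.pow 32 (Nat.mod
    (Nat.div b (Nat.pow 32 j)) 32))) 32) (Nat.pow 32 j))) 24

theorem fastMul_eq (a b : ℕ) : fastMul a b = mulC a b := by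
  rw [mulC]
  unfold fastMul
  generalize 24 = k
  induction k with
  | zero => rfl
  | succ k ih => rw [enc, ← ih]; rfl

/-- `M₁₁` coded as permutations of 24 points. -/
noncomputable def m11Coded : Coded ↥Cfsg.Spor.M11 where
  c g := code (Mathieu.repr Cfsg.Spor.M11 g)
  op := fastMul
  e := idC
  inj := code_injective.comp (Mathieu.repr_injective _)
  c_one := by simp [code_one]
  c_mul a b := by rw [map_mul, code_mul, fastMul_eq]

theorem m11_gen_mem : ∀ p ∈ m11Gens,
    (∃ x, m11Coded.c x = p.1) ∧ ∃ x, m11Coded.c x = p.2 := by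
  have h := Mathieu.exists_code_of_memCheck (M := Cfsg.Spor.M11)
    (l := m11Gens.map Prod.fst ++ m11Gens.map Prod.snd)
    (extra := fun _ c8 => Mathieu.fixesSquares c8 && Mathieu.fixes 0 c8)
    (fun _ _ hσ hp he => Subgroup.mem_inf.2
      ⟨Subgroup.mem_inf.2 ⟨hσ, Mathieu.fixesSquares_spec hp (Bool.and_eq_true_iff.1 he).1⟩,
        Mathieu.fixes_spec (p := some 0) hp (Bool.and_eq_true_iff.1 he).2⟩)
    (by decide +kernel)
  exact fun p hp => ⟨h p.1 (List.mem_append_left _ (List.mem_map_of_mem hp)),
    h p.2 (List.mem_append_right _ (List.mem_map_of_mem hp))⟩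

/-- The products used to reach the listed elements. -/
def m11E : List ℕ := unpack 120 332 m11ET
/-- The class of an element of order eight. -/
def m11Os : List ℕ := unpack 120 990 m11OsT
/-- The involutions. -/
def m11V : List ℕ := unpack 120 165 m11VT

theorem m11_inv : invPairsB fastMul idC m11Gens = true := by decide +kernel

theorem m11_E_check : prodListB fastMul (m11Gens.map Prod.fst) 120 332 m11ET m11EPar = true := by
  decide +kernel

theorem m11_lists : (m11S0 ++ m11Ls ++ m11Lz ++ [m11SCode, m11RCode, m11ZCode]).all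
    (fun u => m11E.contains u) = true := by decide +kernel

theorem m11_small :
    entry 120 m11ET 0 = idC ∧ m11S0.length = 16 ∧ m11Ls.length = 8 ∧
      m11Lz.length = 48 ∧ entry 120 m11OsT 0 = m11SCode ∧ entry 120 m11VT 0 = m11ZCode ∧
      (m11S0.all fun u => m11S0.all fun u' => m11S0.contains (fastMul u u')) = true ∧
      m11S0.contains m11SCode = true ∧ m11S0.contains m11RCode = true ∧
      (m11Ls.all fun u => fastMul u m11SCode == fastMul m11SCode u) = true ∧
      (m11Ls.all fun u => (fastMul u m11RCode != fastMul m11RCode u) || u == idC || u == m11ZCode) = true ∧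
      (m11Lz.all fun u => fastMul u m11ZCode == fastMul m11ZCode u) = true ∧
      (m11ZCode == idC) = false := by
  decide +kernel

theorem m11_faith :
    (m11Lz.all fun u => u == idC || !(m11V.all fun v => fastMul u v == fastMul v u)) = true := by
  decide +kernel

theorem m11_os : conjListB fastMul m11Gens 120 990 m11OsT m11OsPar = true := by decide +kernel

theorem m11_v : conjListB fastMul m11Gens 120 165 m11VT m11VPar = true := by decide +kernel

theorem m11_nodup : m11S0.Nodup ∧ m11Ls.Nodup ∧ m11Lz.Nodup := by decide +kernel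

theorem m11_os_nodup : distinctB m11OsP m11Os = true := by decide +kernel

theorem m11_v_nodup : distinctB m11VP m11V = true := by decide +kernel

theorem m11_adj : adjB fastMul 165 m11T m11V = true := by decide +kernel

theorem m11_tables : tablesB 165 m11T m11R m11N = true := by decide +kernel

theorem m11_steps : stepsB 165 m11R [] m11Steps = true ∧
    ((List.range 165).all fun z => (m11Steps.map Prod.fst).contains z) = true ∧
    (m11Steps.map fun s => s.2.2).prod = 7920 := by decide +kernel

theorem m11_rigid : Nat.card (graphAut 165 m11T) ≤ 7920 :=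
  (card_graphAut_le m11_tables m11_steps.1 m11_steps.2.1).trans_eq m11_steps.2.2

/-- A group with the commuting graph of `M₁₁` embeds into the graph automorphisms. -/
theorem m11_exists_hom {H : Type*} [Group H] (F : H ≃ ↥Cfsg.Spor.M11) (hF1 : F 1 = 1)
    (hF : ∀ x y : H, x * y = y * x ↔ F x * F y = F y * F x) :
    ∃ ρ : H →* graphAut 165 m11T, Function.Injective ρ := by
  obtain ⟨hE0, hS0l, hlsl, hlzl, hOs0, hV0, hS0m, hsS, hrS, hlsc, hsr, hlzc, hzne⟩ := m11_small
  obtain ⟨hS0, hls, hlz⟩ := m11_nodup
  have hOs : m11Os.Nodup := nodup_of_distinctB m11_os_nodup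
  have hV : m11V.Nodup := nodup_of_distinctB m11_v_nodup
  have hOsl : m11Os.length = 990 := by simp [m11Os, unpack]
  have hVl : m11V.length = 165 := by simp [m11V, unpack]
  have hf := m11_faith
  simp only [List.all_eq_true, List.contains_iff_mem, beq_iff_eq, Bool.or_eq_true,
    bne_iff_ne] at hS0m hsS hrS hlsc hsr hlzc hf
  have hlists := m11_lists
  simp only [List.all_eq_true, List.contains_iff_mem, List.mem_append] at hlists
  have hrange : ∀ u ∈ m11E, ∃ g, m11Coded.c g = u :=
    m11Coded.prodList (fun p hp => by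
      obtain ⟨q, hq, rfl⟩ := List.mem_map.1 hp
      exact (m11_gen_mem q hq).1) m11_E_check hE0
  obtain ⟨s, hs⟩ := hrange m11SCode (hlists _ (Or.inr (by simp)))
  obtain ⟨r, hr⟩ := hrange m11RCode (hlists _ (Or.inr (by simp)))
  obtain ⟨z, hz⟩ := hrange m11ZCode (hlists _ (Or.inr (by simp)))
  have hVc := m11Coded.conjList m11_gen_mem m11_inv m11_v (s := z) (hV0.trans hz.symm)
  have hz1 : z ≠ 1 := fun e => by
    rw [e, m11Coded.c_one] at hz
    rw [← hz] at hzne
    simp [m11Coded] at hzne
  obtain ⟨hiff, hcz⟩ := isVertex_iff m11Coded (k := 495)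
    (by rw [Mathieu.card_M11]) (by decide) (s := s) (r := r) (z := z) hS0
    (fun u hu => hrange u (hlists u (Or.inl (Or.inl (Or.inl hu))))) hS0l
    (fun u hu u' hu' => hS0m u hu u' hu') (hs ▸ hsS) (hr ▸ hrS) hls hOs
    (fun u hu => hrange u (hlists u (Or.inl (Or.inl (Or.inr hu)))))
    (fun u hu => hs ▸ hlsc u hu)
    (m11Coded.conjList m11_gen_mem m11_inv m11_os (hOs0.trans hs.symm)) (by rw [hOsl, hlsl])
    (fun u hu h => by
      rw [hr] at h
      rw [hz]
      exact (or_assoc.1 (hsr u hu)).resolve_left (not_not.2 h))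
    hlz hV (fun u hu => hrange u (hlists u (Or.inl (Or.inr hu))))
    (fun u hu => hz ▸ hlzc u hu) hVc (by rw [hVl, hlzl]) (by rw [hlzl]; norm_num) hz1
  refine exists_hom m11Coded hVl hV (fun u hu => (hVc u hu).elim fun t ht => ⟨_, ht⟩) hiff m11_adj
    (fun g hg => ?_) F hF1 hF
  have hzV : m11ZCode ∈ m11V := by
    rw [← hz, hiff]
    exact ((hiff z).1 (by
      have : entry 120 m11VT 0 ∈ m11V := List.mem_map.2 ⟨0, List.mem_range.2 (by norm_num), rfl⟩
      rw [hz, ← hV0]; exact this))
  have hgz : g * z = z * g := (m11Coded.commute_iff g z).2 (by rw [hz]; exact hg _ hzV)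
  rcases hf _ (hcz g hgz) with e | e
  · exact m11Coded.inj (e.trans m11Coded.c_one.symm)
  · have hall : (m11V.all fun v => fastMul (m11Coded.c g) v == fastMul v (m11Coded.c g)) = true :=
      List.all_eq_true.2 fun v hv => beq_iff_eq.2 (hg v hv)
    rw [hall] at e
    exact absurd e (by simp)

end CfsgLib.CommGraph
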