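import Mathlib

/-!
# A bound for the automorphism group of a graph from an individualisation certificate

The graph is given by a bit table; `cn` counts common neighbours.
-/

set_option autoImplicit false

namespace CfsgLib.CommGraph

/-- Bit `(x, y)` of a table. -/
def bitAt (n T x y : ℕ) : Bool := Nat.testBit T (x * n + y)

/-- The number of common neighbours. -/
def cn (n T x y : ℕ) : ℕ := (List.range n).countP fun z => bitAt n T x z && bitAt n T y z

/-- Hexadecimal digit `(x, y)` of a table. -/
def digAt (n R x y : ℕ) : ℕ := R / 16 ^ (x * n + y) % 16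

/-- Row `x` of the neighbour table `N` lists exactly the neighbours, and `R` records adjacency,
equality and the number of common neighbours. -/
def tablesB (n T R : ℕ) (N : List (List ℕ)) : Bool :=
  (N.length == n) && N.zipIdx.all fun q =>
    (q.1 == (List.range n).filter (bitAt n T q.2)) && (List.range n).all fun y =>
      digAt n R q.2 y == if q.2 = y then 15 else
        min 7 (q.1.countP fun z => bitAt n T y z) + bif bitAt n T q.2 y then 8 else 0

/-- Every step `(x, ys, c)` has `ys` among the earlier vertices and at most `c` candidates. -/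
def stepsB (n R : ℕ) : List ℕ → List (ℕ × List ℕ × ℕ) → Bool
  | _, [] => true
  | dn, (x, ys, c) :: rest =>
    decide (x < n) && ys.all (fun y => decide (y < n) && dn.contains y) &&
      decide ((List.range n).countP (fun z => ys.all fun y => digAt n R z y == digAt n R x y) ≤ c) &&
      stepsB n R (x :: dn) rest

/-- The automorphisms of the graph. -/
def graphAut (n T : ℕ) : Subgroup (Equiv.Perm (Fin n)) where
  carrier := {π | ∀ x y : Fin n, bitAt n T (π x) (π y) = bitAt n T x y}
  mul_mem' := fun {a b} ha hb x y => (ha (b x) (b y)).trans (hb x y)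
  one_mem' := fun _ _ => rfl
  inv_mem' := fun {a} ha x y => by
    have := ha (a⁻¹ x) (a⁻¹ y)
    simpa using this.symm

theorem countP_range_card (n : ℕ) (p : ℕ → Bool) :
    (List.range n).countP p = (Finset.univ.filter fun i : Fin n => p i = true).card := by
  induction n with
  | zero => simp
  | succ n ih =>
    rw [List.range_succ, List.countP_append, List.countP_singleton, ih,
      Finset.card_filter, Finset.card_filter, Fin.sum_univ_castSucc]
    rfl

theorem cn_map {n T : ℕ} {π : Equiv.Perm (Fin n)} (hπ : π ∈ graphAut n T) (x y : Fin n) :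
    cn n T (π x) (π y) = cn n T x y := by
  rw [cn, cn, countP_range_card, countP_range_card]
  refine (Finset.card_equiv π fun i => ?_).symm
  simp only [Finset.mem_filter, Finset.mem_univ, true_and]
  rw [hπ x i, hπ y i]

theorem dig_map {n T R : ℕ} {N : List (List ℕ)} (h : tablesB n T R N = true)
    {π : Equiv.Perm (Fin n)} (hπ : π ∈ graphAut n T) (x y : Fin n) :
    digAt n R (π x) (π y) = digAt n R x y := by
  simp only [tablesB, Bool.and_eq_true, beq_iff_eq, List.all_eq_true, List.mem_range] at h
  have key : ∀ u v : Fin n, digAt n R u v = if (u : ℕ) = v then 15 else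
      min 7 (cn n T u v) + bif bitAt n T u v then 8 else 0 := by
    intro u v
    have hu : (u : ℕ) < N.length := by rw [h.1]; exact u.2
    obtain ⟨hN, hR⟩ := h.2 (N[(u : ℕ)], (u : ℕ)) (by
      rw [List.mk_mem_zipIdx_iff_getElem?, List.getElem?_eq_getElem hu])
    rw [hR v v.2]
    have : N[(u : ℕ)].countP (fun z => bitAt n T v z) = cn n T u v := by
      rw [cn, show N[(u : ℕ)] = (List.range n).filter (bitAt n T u) from hN, List.countP_filter]
      exact List.countP_congr fun z _ => by simp [Bool.and_comm]
    simp only [this]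
  rw [key, key, cn_map hπ, hπ x y]
  simp [Fin.val_inj]

theorem card_image_le {n T R : ℕ} {N : List (List ℕ)} (h : tablesB n T R N = true) :
    ∀ (steps : List (ℕ × List ℕ × ℕ)) (dn : List ℕ), stepsB n R dn steps = true →
      Nat.card (Set.range fun π : graphAut n T => fun z : {z : Fin n //
          (z : ℕ) ∈ dn ∨ (z : ℕ) ∈ steps.map Prod.fst} => (π : Equiv.Perm (Fin n)) z.1) ≤
        Nat.card (Set.range fun π : graphAut n T => fun z : {z : Fin n // (z : ℕ) ∈ dn} =>
          (π : Equiv.Perm (Fin n)) z.1) * (steps.map fun s => s.2.2).prod := by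
  classical
  intro steps
  induction steps with
  | nil =>
    intro dn _
    simp only [List.map_nil, List.prod_nil, mul_one]
    refine Nat.card_le_card_of_injective
      (fun a => ⟨fun z => a.1 ⟨z.1, Or.inl z.2⟩, a.2.elim fun π hπ => ⟨π, by rw [← hπ]⟩⟩) ?_
    intro a b hab
    refine Subtype.ext (funext fun z => ?_)
    have hz : (z.1 : ℕ) ∈ dn := by simpa using z.2
    exact congrFun (congrArg Subtype.val hab) ⟨z.1, hz⟩
  | cons st rest ih =>
    obtain ⟨x, ys, c⟩ := st
    intro dn hs
    simp only [stepsB, Bool.and_eq_true, decide_eq_true_eq, List.all_eq_true,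
      List.contains_iff_mem] at hs
    obtain ⟨⟨⟨hx, hys⟩, hc⟩, hrest⟩ := hs
    simp only [List.map_cons, List.prod_cons]
    refine le_trans (le_trans (Nat.card_le_card_of_injective
      (fun a => (⟨fun z => a.1 ⟨z.1, by
          rcases z.2 with hz | hz
          · rcases List.mem_cons.1 hz with hz | hz
            · exact Or.inr (List.mem_cons.2 (Or.inl hz))
            · exact Or.inl hz
          · exact Or.inr (List.mem_cons_of_mem _ hz)⟩, a.2.elim fun π hπ => ⟨π, by rw [← hπ]⟩⟩ :
        Set.range fun π : graphAut n T => fun z : {z : Fin n //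
          (z : ℕ) ∈ x :: dn ∨ (z : ℕ) ∈ rest.map Prod.fst} => (π : Equiv.Perm (Fin n)) z.1))
      ?_) (ih (x :: dn) hrest)) ?_
    · intro a b hab
      refine Subtype.ext (funext fun z => ?_)
      have hz : (z.1 : ℕ) ∈ x :: dn ∨ (z.1 : ℕ) ∈ rest.map Prod.fst := by
        rcases z.2 with hz | hz
        · exact Or.inl (List.mem_cons_of_mem _ hz)
        · rcases List.mem_cons.1 hz with hz | hz
          · exact Or.inl (by rw [hz]; exact List.mem_cons_self ..)
          · exact Or.inr hz
      exact congrFun (congrArg Subtype.val hab) ⟨z.1, hz⟩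
    · rw [← mul_assoc]
      refine Nat.mul_le_mul_right _ ?_
      set A : Finset ({z : Fin n // (z : ℕ) ∈ x :: dn} → Fin n) :=
        Finset.univ.image fun π : graphAut n T => fun z => (π : Equiv.Perm (Fin n)) z.1 with hA
      set B : Finset ({z : Fin n // (z : ℕ) ∈ dn} → Fin n) :=
        Finset.univ.image fun π : graphAut n T => fun z => (π : Equiv.Perm (Fin n)) z.1 with hB
      have eA : ∀ {m : Type} [Fintype m] [DecidableEq m] (f : graphAut n T → m),
          Nat.card (Set.range f) = (Finset.univ.image f).card := fun f => by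
        rw [← Nat.card_eq_finsetCard]
        exact Nat.card_congr (Equiv.subtypeEquivRight fun b => by simp)
      rw [eA, eA, ← hA, ← hB, mul_comm]
      refine Finset.card_le_mul_card_image_of_maps_to (f := fun a z => a ⟨z.1, List.mem_cons_of_mem _ z.2⟩)
        ?_ c ?_
      · intro a ha
        obtain ⟨π, -, rfl⟩ := Finset.mem_image.1 ha
        exact Finset.mem_image.2 ⟨π, Finset.mem_univ _, rfl⟩
      · intro b hb
        obtain ⟨π0, -, rfl⟩ := Finset.mem_image.1 hb
        refine le_trans ?_ hc
        rw [countP_range_card]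
        refine Finset.card_le_card_of_injOn
          (fun a => (π0 : Equiv.Perm (Fin n)).symm (a ⟨⟨x, hx⟩, List.mem_cons_self ..⟩)) ?_ ?_
        · intro a ha
          obtain ⟨ha1, ha2⟩ := Finset.mem_filter.1 ha
          obtain ⟨π, -, rfl⟩ := Finset.mem_image.1 ha1
          simp only [Finset.coe_filter, Finset.mem_univ, true_and, Set.mem_setOf_eq,
            List.all_eq_true, beq_iff_eq]
          intro y hy
          obtain ⟨hyn, hyd'⟩ := hys y hy
          have hyd : (((⟨y, hyn⟩ : Fin n)) : ℕ) ∈ dn := hyd'
          have h1 := dig_map h π0.2 ((π0 : Equiv.Perm (Fin n)).symm ((π : Equiv.Perm (Fin n)) ⟨x, hx⟩)) ⟨y, hyn⟩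
          rw [Equiv.apply_symm_apply, ← (congrFun ha2 ⟨⟨y, hyn⟩, hyd⟩ :)] at h1
          rw [← h1]
          exact dig_map h π.2 ⟨x, hx⟩ ⟨y, hyn⟩
        · intro a ha a' ha' he
          have he' := (π0 : Equiv.Perm (Fin n)).symm.injective he
          refine funext fun z => ?_
          rcases List.mem_cons.1 z.2 with hz | hz
          · have : z = ⟨⟨x, hx⟩, List.mem_cons_self ..⟩ := Subtype.ext (Fin.ext hz)
            rw [this]; exact he'
          · exact (congrFun ((Finset.mem_filter.1 ha).2.trans (Finset.mem_filter.1 ha').2.symm)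
              ⟨z.1, hz⟩ :)

/-- The bound. -/
theorem card_graphAut_le {n T R : ℕ} {N : List (List ℕ)} {steps : List (ℕ × List ℕ × ℕ)}
    (h : tablesB n T R N = true) (hs : stepsB n R [] steps = true)
    (hall : ((List.range n).all fun z => (steps.map Prod.fst).contains z) = true) :
    Nat.card (graphAut n T) ≤ (steps.map fun s => s.2.2).prod := by
  classical
  simp only [List.all_eq_true, List.mem_range, List.contains_iff_mem] at hall
  refine le_trans ?_ (le_trans (card_image_le h steps [] hs) ?_)
  · refine Nat.card_le_card_of_injective (fun π => ⟨_, ⟨π, rfl⟩⟩) fun π π' hp => ?_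
    refine Subtype.ext (Equiv.ext fun i => ?_)
    exact congrFun (congrArg Subtype.val hp) ⟨i, Or.inr (hall i i.2)⟩
  · refine le_trans (Nat.mul_le_mul_right _ ?_) (le_of_eq (one_mul _))
    haveI : IsEmpty {z : Fin n // (z : ℕ) ∈ ([] : List ℕ)} := ⟨fun z => by simpa using z.2⟩
    exact Finite.card_le_one_iff_subsingleton.2 inferInstance

end CfsgLib.CommGraph
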