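import Cfsg.Agent.Lib.CommGraph.Coded
import Cfsg.Agent.Lib.CommGraph.Rigid

/-!
# Groups with the commuting graph of a coded group act on its involution graph

The vertices are the elements `g ≠ 1` whose centralizer has order divisible by `16`; a bijection
preserving commutation preserves this set.
-/

set_option autoImplicit false
set_option linter.style.haveILetI false

namespace CfsgLib.CommGraph

/-- The vertices of the graph. -/
def IsVertex {G : Type*} [Group G] (g : G) : Prop :=
  g ≠ 1 ∧ 16 ∣ Nat.card (Subgroup.centralizer ({g} : Set G))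

/-- The table `T` is the commuting relation of the codes in `V`. -/
def adjB (op : ℕ → ℕ → ℕ) (n T : ℕ) (V : List ℕ) : Bool :=
  V.zipIdx.all fun a => V.zipIdx.all fun b =>
    bitAt n T a.2 b.2 == (decide (a.2 ≠ b.2) && op a.1 b.1 == op b.1 a.1)

theorem card_centralizer_of_bijection {H G : Type*} [Group H] [Group G] (F : H ≃ G)
    (hF : ∀ x y : H, x * y = y * x ↔ F x * F y = F y * F x) (x : H) :
    Nat.card (Subgroup.centralizer ({x} : Set H)) =
      Nat.card (Subgroup.centralizer ({F x} : Set G)) :=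
  Nat.card_congr (F.subtypeEquiv fun y => by
    rw [Subgroup.mem_centralizer_singleton_iff, Subgroup.mem_centralizer_singleton_iff]
    exact hF y x)

theorem isVertex_conj {H : Type*} [Group H] {x : H} (h : IsVertex x) (g : H) :
    IsVertex (g * x * g⁻¹) := by
  refine ⟨fun e => h.1 (conj_eq_one_iff.1 e), ?_⟩
  have he : Nat.card (Subgroup.centralizer ({g * x * g⁻¹} : Set H)) =
      Nat.card (Subgroup.centralizer ({x} : Set H)) := by
    refine (Nat.card_congr ((MulAut.conj g).toEquiv.subtypeEquiv fun y => ?_)).symm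
    rw [Subgroup.mem_centralizer_singleton_iff, Subgroup.mem_centralizer_singleton_iff]
    show y * x = x * y ↔ MulAut.conj g y * (g * x * g⁻¹) = g * x * g⁻¹ * MulAut.conj g y
    rw [← MulAut.conj_apply, ← map_mul, ← map_mul]
    exact ((MulAut.conj g).injective.eq_iff).symm
  rw [he]
  exact h.2

/-- The group `H` embeds into the automorphisms of the vertex graph. -/
theorem exists_hom {G H : Type*} [Group G] [Group H] (C : Coded G) {n T : ℕ} {V : List ℕ}
    (hn : V.length = n) (hnd : V.Nodup) (hr : ∀ u ∈ V, ∃ g, C.c g = u)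
    (hV : ∀ g, C.c g ∈ V ↔ IsVertex g) (hT : adjB C.op n T V = true)
    (hfaith : ∀ g : G, (∀ u ∈ V, C.op (C.c g) u = C.op u (C.c g)) → g = 1)
    (F : H ≃ G) (hF1 : F 1 = 1) (hF : ∀ x y : H, x * y = y * x ↔ F x * F y = F y * F x) :
    ∃ ρ : H →* graphAut n T, Function.Injective ρ := by
  classical
  choose v hv using fun i : Fin n =>
    hr (V[(i : ℕ)]'(by rw [hn]; exact i.2)) (List.getElem_mem _)
  have hQ : ∀ x : H, IsVertex x ↔ IsVertex (F x) := fun x => by
    rw [IsVertex, IsVertex, card_centralizer_of_bijection F hF, ← hF1, F.injective.ne_iff]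
  let w : Fin n → {x : H // IsVertex x} := fun i => ⟨F.symm (v i), by
    rw [hQ, F.apply_symm_apply, ← hV, hv]
    exact List.getElem_mem _⟩
  have hw : ∀ i, F (w i).1 = v i := fun i => F.apply_symm_apply _
  have hwb : Function.Bijective w := by
    constructor
    · intro i j hij
      have h : C.c (v i) = C.c (v j) := by rw [← hw, ← hw, hij]
      rw [hv, hv] at h
      exact Fin.ext (hnd.getElem_inj_iff.1 h)
    · rintro ⟨x, hx⟩
      obtain ⟨k, hk, he⟩ := List.getElem_of_mem ((hV (F x)).2 ((hQ x).1 hx))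
      refine ⟨⟨k, by rw [← hn]; exact hk⟩, Subtype.ext (F.injective ?_)⟩
      rw [hw]
      exact C.inj ((hv _).trans he)
  let e : Fin n ≃ {x : H // IsVertex x} := Equiv.ofBijective w hwb
  letI : MulAction H {x : H // IsVertex x} :=
    { smul := fun g x => ⟨g * x.1 * g⁻¹, isVertex_conj x.2 g⟩
      one_smul := fun x => Subtype.ext (show 1 * x.1 * 1⁻¹ = x.1 by simp)
      mul_smul := fun a b x => Subtype.ext (show a * b * x.1 * (a * b)⁻¹ = a * (b * x.1 * b⁻¹) * a⁻¹ by
        group) }
  have hadj : ∀ i j : Fin n, bitAt n T i j = true ↔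
      (i ≠ j ∧ (w i).1 * (w j).1 = (w j).1 * (w i).1) := by
    intro i j
    simp only [adjB, List.all_eq_true] at hT
    have h := hT (V[(i : ℕ)]'(by rw [hn]; exact i.2), (i : ℕ))
      (by rw [List.mk_mem_zipIdx_iff_getElem?, List.getElem?_eq_getElem])
      (V[(j : ℕ)]'(by rw [hn]; exact j.2), (j : ℕ))
      (by rw [List.mk_mem_zipIdx_iff_getElem?, List.getElem?_eq_getElem])
    rw [beq_iff_eq] at h
    rw [h, Bool.and_eq_true, decide_eq_true_eq, beq_iff_eq, hF, hw, hw, C.commute_iff, hv, hv,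
      Fin.val_ne_iff]
  let ψ : H →* Equiv.Perm (Fin n) :=
    (e.symm.permCongrHom).toMonoidHom.comp (MulAction.toPermHom H {x : H // IsVertex x})
  have hψ : ∀ (g : H) (i : Fin n), (w (ψ g i)).1 = g * (w i).1 * g⁻¹ := fun g i => by
    show (e (e.symm (g • e i))).1 = _
    rw [Equiv.apply_symm_apply]
    rfl
  have hmem : ∀ g, ψ g ∈ graphAut n T := by
    intro g i j
    rw [Bool.eq_iff_iff, hadj, hadj, hψ, hψ, (ψ g).injective.ne_iff]
    refine and_congr_right fun _ => ?_
    exact Commute.conj_iff g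
  refine ⟨ψ.codRestrict _ hmem, ?_⟩
  rw [injective_iff_map_eq_one]
  intro g hg
  have hg' : ψ g = 1 := congrArg Subtype.val hg
  have h1 : F g = 1 := by
    refine hfaith _ fun u hu => ?_
    obtain ⟨k, hk, rfl⟩ := List.getElem_of_mem hu
    have h := hψ g ⟨k, by rw [← hn]; exact hk⟩
    rw [hg', Equiv.Perm.one_apply, eq_mul_inv_iff_mul_eq] at h
    have h' := (hF _ _).1 h
    rw [hw, C.commute_iff, hv] at h'
    exact h'.symm
  exact F.injective (h1.trans hF1.symm)

/-- Certificate: `s` (with centraliser list `ls`) and `r` lie in the Sylow 2-subgroup `S₀`, and the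
only non-trivial element commuting with both is `z`, whose class is `V`. -/
theorem isVertex_iff {G : Type*} [Group G] [Finite G] (C : Coded G) {k : ℕ}
    (hG : Nat.card G = 16 * k) (hk : Odd k)
    {s r z : G} {S0 ls Os lz V : List ℕ}
    (hS0 : S0.Nodup) (hS0r : ∀ u ∈ S0, ∃ g, C.c g = u) (hS0l : S0.length = 16)
    (hS0m : ∀ u ∈ S0, ∀ u' ∈ S0, C.op u u' ∈ S0) (hsS : C.c s ∈ S0) (hrS : C.c r ∈ S0)
    (hls : ls.Nodup) (hOs : Os.Nodup) (hlsr : ∀ u ∈ ls, ∃ g, C.c g = u)
    (hlsc : ∀ u ∈ ls, C.op u (C.c s) = C.op (C.c s) u)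
    (hOsc : ∀ u ∈ Os, ∃ t : G, C.c (t * s * t⁻¹) = u) (hNs : Os.length * ls.length = 16 * k)
    (hsr : ∀ u ∈ ls, C.op u (C.c r) = C.op (C.c r) u → u = C.e ∨ u = C.c z)
    (hlz : lz.Nodup) (hV : V.Nodup) (hlzr : ∀ u ∈ lz, ∃ g, C.c g = u)
    (hlzc : ∀ u ∈ lz, C.op u (C.c z) = C.op (C.c z) u)
    (hVc : ∀ u ∈ V, ∃ t : G, C.c (t * z * t⁻¹) = u) (hNz : V.length * lz.length = 16 * k)
    (h16 : 16 ∣ lz.length) (hz : z ≠ 1) :
    (∀ g, C.c g ∈ V ↔ IsVertex g) ∧ ∀ g, g * z = z * g → C.c g ∈ lz := by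
  obtain ⟨hzl, hzV, hzc⟩ := C.class_and_centralizer hlz hV hlzr hlzc hVc (hNz.trans hG.symm)
  refine ⟨fun g => ⟨fun hg => ?_, fun hg => ?_⟩, hzl⟩
  · obtain ⟨t, ht⟩ := hVc _ hg
    rw [← C.inj ht]
    exact isVertex_conj ⟨hz, by rw [hzc]; exact h16⟩ t
  · haveI : Fact (Nat.Prime 2) := ⟨Nat.prime_two⟩
    obtain ⟨hsl, -, -⟩ := C.class_and_centralizer hls hOs hlsr hlsc hOsc (hNs.trans hG.symm)
    let S : Submonoid G :=
      { carrier := {g | C.c g ∈ S0}
        mul_mem' := fun {a b} ha hb => by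
          show C.c (a * b) ∈ S0
          rw [C.c_mul]
          exact hS0m _ ha _ hb
        one_mem' := by
          show C.c 1 ∈ S0
          have hpow : ∀ i : ℕ, C.c (s ^ (i + 1)) ∈ S0 := by
            intro i
            induction i with
            | zero => simpa using hsS
            | succ i ih => rw [pow_succ, C.c_mul]; exact hS0m _ ih _ hsS
          have := hpow (orderOf s - 1)
          rwa [Nat.sub_add_cancel (orderOf_pos s), pow_orderOf_eq_one] at this }
    let SG : Subgroup G :=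
      { S with
        inv_mem' := fun {a} ha => by
          have h1 : a⁻¹ = a ^ (orderOf a - 1) := by
            refine inv_eq_of_mul_eq_one_right ?_
            rw [← pow_succ', Nat.sub_add_cancel (orderOf_pos a), pow_orderOf_eq_one]
          show a⁻¹ ∈ S
          rw [h1]
          exact S.pow_mem ha _ }
    have hSG : Nat.card SG = 16 := by
      refine le_antisymm ?_ ?_
      · rw [← hS0l, ← List.toFinset_card_of_nodup hS0, ← Nat.card_eq_finsetCard]
        refine Nat.card_le_card_of_injective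
          (fun g : SG => (⟨C.c g.1, List.mem_toFinset.2 g.2⟩ : S0.toFinset)) fun a b e => ?_
        exact Subtype.ext (C.inj (congrArg Subtype.val e))
      · rw [← hS0l]
        exact C.le_card_of_list (fun g => g ∈ SG) hS0 fun u hu => by
          obtain ⟨g, rfl⟩ := hS0r u hu
          exact ⟨g, hu, rfl⟩
    obtain ⟨Q, hQ⟩ := Sylow.exists_subgroup_card_pow_prime 2
      (show 2 ^ 4 ∣ Nat.card (Subgroup.centralizer ({g} : Set G)) from hg.2)
    have hfac : (Nat.card G).factorization 2 = 4 := by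
      have hk2 : ¬ 2 ∣ k := fun h => Nat.not_even_iff_odd.2 hk (even_iff_two_dvd.2 h)
      rw [hG, show (16 : ℕ) = 2 ^ 4 by norm_num, Nat.factorization_mul (by norm_num) hk.pos.ne',
        Finsupp.add_apply, Nat.Prime.factorization_pow Nat.prime_two, Finsupp.single_eq_same,
        Nat.factorization_eq_zero_of_not_dvd hk2]
    let P1 : Sylow 2 G := Sylow.ofCard SG (by rw [hfac, hSG]; norm_num)
    let P2 : Sylow 2 G := Sylow.ofCard (Q.map (Subgroup.centralizer ({g} : Set G)).subtype)
      (by rw [hfac, Subgroup.card_map_of_injective (Subgroup.subtype_injective _), hQ])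
    obtain ⟨x, hx⟩ := MulAction.exists_smul_eq G P1 P2
    have hcm : ∀ u, C.c u ∈ S0 → Commute (x⁻¹ * g * x) u := by
      intro u hu
      have h1 : x * u * x⁻¹ ∈ (P2 : Subgroup G) := by
        rw [← hx, Sylow.coe_subgroup_smul]
        exact ⟨u, hu, rfl⟩
      obtain ⟨c, -, hc⟩ := Subgroup.mem_map.1 h1
      have h2 : (c : G) * g = g * c := Subgroup.mem_centralizer_singleton_iff.1 c.2
      rw [show (c : G) = x * u * x⁻¹ from hc] at h2
      calc x⁻¹ * g * x * u = x⁻¹ * (g * (x * u * x⁻¹)) * x := by group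
        _ = x⁻¹ * (x * u * x⁻¹ * g) * x := by rw [h2]
        _ = u * (x⁻¹ * g * x) := by group
    have hmem := hsl _ (hcm s hsS)
    have hz' : x⁻¹ * g * x = z := by
      rcases hsr _ hmem ((C.commute_iff _ _).1 (hcm r hrS)) with e | e
      · rw [← C.c_one] at e
        exact absurd (by
          calc g = x * (x⁻¹ * g * x) * x⁻¹ := by group
            _ = 1 := by rw [C.inj e]; group) hg.1
      · exact C.inj e
    have := hzV x
    rw [← hz'] at this
    simpa [mul_assoc] using this

/-- A bijection of the commuting graphs extends to the groups. -/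
theorem exists_extend {H G : Type*} [Group H] [Group G] (f : {h : H // h ≠ 1} ≃ {g : G // g ≠ 1})
    (hf : ∀ x y : {h : H // h ≠ 1},
      (x : H) * y = y * x ↔ (f x : G) * f y = f y * f x) :
    ∃ F : H ≃ G, F 1 = 1 ∧ ∀ x y : H, x * y = y * x ↔ F x * F y = F y * F x := by
  classical
  refine ⟨(Equiv.optionSubtypeNe (1 : H)).symm.trans
    (f.optionCongr.trans (Equiv.optionSubtypeNe (1 : G))), by simp, fun x y => ?_⟩
  by_cases hx : x = 1
  · subst hx; simp
  by_cases hy : y = 1
  · subst hy; simp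
  simpa [Equiv.optionSubtypeNe_symm_of_ne hx, Equiv.optionSubtypeNe_symm_of_ne hy] using
    hf ⟨x, hx⟩ ⟨y, hy⟩

end CfsgLib.CommGraph
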